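import Mathlib.Data.List.Basic

/-!
Choices of root words (by block) of the Sylow 2-subgroup of the Tits group and certificates that small
orbits of that subgroup are fixed by two central-type involutions.
-/

set_option autoImplicit false

namespace CfsgLib.TitsTwoTrans

/-- The central involution. -/
def zSel : List ℕ := [0, 0, 0, 2, 0, 0, 0, 0]

/-- Its conjugate. -/
def zSel1 : List ℕ := [0, 0, 0, 0, 0, 2, 0, 0]

/-- The chosen element. -/
def gen16 : List ℕ := [1, 1, 0, 0, 0, 0, 0, 3]

/-- The second element. -/
def sndA16 : List ℕ := [0, 0, 1, 0, 0, 0, 0, 0]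

/-- The third element. -/
def sndB16 : List ℕ := [1, 1, 0, 1, 1, 3, 0, 3]

/-- Powers of the chosen element. -/
def pow16 : List (List ℕ) := [
    [0, 0, 0, 0, 0, 0, 0, 0],
    [1, 1, 0, 0, 0, 0, 0, 3],
    [0, 1, 1, 2, 0, 1, 0, 2],
    [1, 2, 0, 3, 1, 2, 0, 1],
    [0, 2, 0, 0, 0, 2, 1, 0],
    [1, 3, 1, 2, 0, 0, 1, 3],
    [0, 3, 1, 0, 1, 1, 1, 2],
    [1, 0, 1, 3, 0, 2, 1, 1],
    [0, 0, 0, 2, 0, 0, 0, 0],
    [1, 1, 0, 2, 0, 0, 0, 3],
    [0, 1, 1, 0, 0, 1, 0, 2],
    [1, 2, 0, 1, 1, 2, 0, 1],
    [0, 2, 0, 2, 0, 2, 1, 0],
    [1, 3, 1, 0, 0, 0, 1, 3],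
    [0, 3, 1, 2, 1, 1, 1, 2],
    [1, 0, 1, 1, 0, 2, 1, 1]]

/-- The second element times the powers. -/
def mulA16 : List (List ℕ) := [
    [0, 0, 1, 0, 0, 0, 0, 0],
    [1, 1, 1, 0, 0, 0, 0, 3],
    [0, 1, 0, 2, 0, 1, 0, 2],
    [1, 2, 1, 3, 1, 2, 0, 1],
    [0, 2, 1, 0, 0, 2, 1, 0],
    [1, 3, 0, 2, 0, 0, 1, 3],
    [0, 3, 0, 0, 1, 1, 1, 2],
    [1, 0, 0, 3, 0, 2, 1, 1],
    [0, 0, 1, 2, 0, 0, 0, 0],
    [1, 1, 1, 2, 0, 0, 0, 3],
    [0, 1, 0, 0, 0, 1, 0, 2],
    [1, 2, 1, 1, 1, 2, 0, 1],
    [0, 2, 1, 2, 0, 2, 1, 0],
    [1, 3, 0, 0, 0, 0, 1, 3],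
    [0, 3, 0, 2, 1, 1, 1, 2],
    [1, 0, 0, 1, 0, 2, 1, 1]]

/-- The third element times the powers. -/
def mulB16 : List (List ℕ) := [
    [1, 1, 0, 1, 1, 3, 0, 3],
    [0, 1, 0, 3, 1, 0, 0, 2],
    [1, 2, 1, 2, 1, 1, 0, 1],
    [0, 2, 0, 1, 1, 1, 1, 0],
    [1, 3, 1, 1, 1, 3, 1, 3],
    [0, 3, 0, 1, 0, 0, 1, 2],
    [1, 0, 0, 0, 0, 1, 1, 1],
    [0, 0, 0, 3, 1, 3, 0, 0],
    [1, 1, 0, 3, 1, 3, 0, 3],
    [0, 1, 0, 1, 1, 0, 0, 2],
    [1, 2, 1, 0, 1, 1, 0, 1],
    [0, 2, 0, 3, 1, 1, 1, 0],
    [1, 3, 1, 3, 1, 3, 1, 3],
    [0, 3, 0, 3, 0, 0, 1, 2],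
    [1, 0, 0, 2, 0, 1, 1, 1],
    [0, 0, 0, 1, 1, 3, 0, 0]]

/-- Words landing on the target; a row with one entry serves for all columns. -/
def cert16 : List (List (List Bool)) := [
    [[false, false, false, false, false, false, false, false], [false, false, false, false], [false, false, false, false, false, false, false, false], [true, false, true, false, false, false], [false, false, false, false, false, false, false, false], [false, false, false, false], [false, false, false, false, false, false, false, false], [true, false, true, false, false, false], [false, false, false, false, false, false, false, false], [false, false, false, false], [false, false, false, false, false, false, false, false], [true, false, true, false, false, false], [false, false, false, false, false, false, false, false], [false, false, false, false], [false, false, false, false, false, false, false, false], [true, false, true, false, false, false]],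
    [[true, true, true, true, true, true, true, true]],
    [[true, true, true, true]],
    [[true, true, true, true, true, true, true, true]],
    [[true, true]],
    [[true, true, true, true, true, true, true, true]],
    [[true, true, true, true]],
    [[true, true, true, true, true, true, true, true]],
    [[false, false, false, false, false, false, false, false], [false, false, false, false], [false, false, false, false, false, false, false, false], [true, false, true, false, false, false], [false, false, false, false, false, false, false, false], [false, false, false, false], [false, false, false, false, false, false, false, false], [true, false, true, false, false, false], [false, false, false, false, false, false, false, false], [false, false, false, false], [false, false, false, false, false, false, false, false], [true, false, true, false, false, false], [false, false, false, false, false, false, false, false], [false, false, false, false], [false, false, false, false, false, false, false, false], [true, false, true, false, false, false]],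
    [[true, true, true, true, true, true, true, true]],
    [[true, true, true, true]],
    [[true, true, true, true, true, true, true, true]],
    [[true, true]],
    [[true, true, true, true, true, true, true, true]],
    [[true, true, true, true]],
    [[true, true, true, true, true, true, true, true]]]

/-- The chosen element. -/
def gen8 : List ℕ := [0, 3, 0, 0, 0, 0, 0, 3]

/-- The second element. -/
def sndA8 : List ℕ := [0, 0, 1, 0, 0, 0, 1, 0]

/-- The third element. -/
def sndB8 : List ℕ := [0, 0, 0, 0, 0, 0, 0, 2]

/-- Powers of the chosen element. -/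
def pow8 : List (List ℕ) := [
    [0, 0, 0, 0, 0, 0, 0, 0],
    [0, 3, 0, 0, 0, 0, 0, 3],
    [0, 2, 0, 3, 0, 1, 1, 2],
    [0, 1, 1, 1, 0, 3, 0, 1],
    [0, 0, 0, 2, 0, 2, 0, 0],
    [0, 3, 0, 2, 0, 2, 0, 3],
    [0, 2, 0, 1, 0, 3, 1, 2],
    [0, 1, 1, 3, 0, 1, 0, 1]]

/-- The second element times the powers. -/
def mulA8 : List (List ℕ) := [
    [0, 0, 1, 0, 0, 0, 1, 0],
    [0, 3, 1, 0, 1, 2, 1, 3],
    [0, 2, 1, 1, 0, 3, 0, 2],
    [0, 1, 0, 3, 1, 3, 1, 1],
    [0, 0, 1, 2, 0, 2, 1, 0],
    [0, 3, 1, 2, 1, 0, 1, 3],
    [0, 2, 1, 3, 0, 1, 0, 2],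
    [0, 1, 0, 1, 1, 1, 1, 1]]

/-- The third element times the powers. -/
def mulB8 : List (List ℕ) := [
    [0, 0, 0, 0, 0, 0, 0, 2],
    [0, 3, 0, 2, 1, 0, 1, 1],
    [0, 2, 0, 1, 1, 3, 1, 0],
    [0, 1, 1, 3, 0, 1, 1, 3],
    [0, 0, 0, 2, 0, 2, 0, 2],
    [0, 3, 0, 0, 1, 2, 1, 1],
    [0, 2, 0, 3, 1, 1, 1, 0],
    [0, 1, 1, 1, 0, 3, 1, 3]]

/-- Words landing on the target; a row with one entry serves for all columns. -/
def cert8 : List (List (List Bool)) := [
    [[true, false, true, false], [true, false, true, false, false, false], [true, false, true, false, false, false], [true, false, true, false, false, false], [true, false, true, false], [true, false, true, false, false, false], [true, false, true, false, false, false], [true, false, true, false, false, false]],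
    [[true, true, true, true]],
    [[true, true]],
    [[true, true, true, true]],
    [[true, false, true, false], [true, false, true, false, false, false], [true, false, true, false, false, false], [true, false, true, false, false, false], [true, false, true, false], [true, false, true, false, false, false], [true, false, true, false, false, false], [true, false, true, false, false, false]],
    [[true, true, true, true]],
    [[true, true]],
    [[true, true, true, true]]]

end CfsgLib.TitsTwoTrans
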