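import Cfsg.Agent.TitsInvolutions.Words
import Cfsg.Agent.TitsTwoTrans.Data

/-! The certificates are correct. -/

set_option autoImplicit false

namespace CfsgLib.TitsTwoTrans

open CfsgLib.TitsInvolutions

/-- The word of a choice of one entry in every block. -/
def pickW : List (List (List ℕ × Bool)) → List ℕ → List ℕ
  | b :: bs, i :: is => (b.getD i ([], false)).1 ++ pickW bs is
  | _, _ => []

/-- The flag of a choice. -/
def pickF : List (List (List ℕ × Bool)) → List ℕ → Bool
  | b :: bs, i :: is => xor (b.getD i ([], false)).2 (pickF bs is)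
  | _, _ => false

/-- The word of a choice in the Sylow subgroup. -/
def wd (s : List ℕ) : List ℕ := pickW (blocks seq8) s

/-- Admissible choices with even flag. -/
def okSel (s : List ℕ) : Bool :=
  s.length == 8 && ((blocks seq8).zip s).all (fun e => decide (e.2 < e.1.length)) &&
    !pickF (blocks seq8) s

/-- Comparison on a vector with trivial stabiliser. -/
def sameV (a b : List ℕ) : Bool := appW a 17 == appW b 17

theorem regular : (fwd (blocks seq8) 17).count 17 = 1 := by decide +kernel

/-- Looking up a row, or its only entry. -/
def lookCert (C : List (List (List Bool))) (i j : ℕ) : List Bool :=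
  let row := C.getD i []
  row.getD (if row.length == 1 then 0 else j) []

/-- The word of a certificate entry. -/
def certWord (A B : List (List ℕ)) (i j : ℕ) (l : List Bool) : List ℕ :=
  l.flatMap fun u => if u then wd (A.getD i []) else wd (B.getD j [])

theorem sel_ok : ([zSel, zSel1, gen16, sndA16, sndB16, gen8, sndA8, sndB8] ++ pow16 ++ mulA16 ++
    mulB16 ++ pow8 ++ mulA8 ++ mulB8).all okSel = true := by decide +kernel

theorem chain16 : (List.range 15).all (fun i =>
    sameV (wd (pow16.getD i []) ++ wd gen16) (wd (pow16.getD (i + 1) []))) = true := by decide +kernel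

theorem wrap16 : sameV (wd (pow16.getD 15 []) ++ wd gen16) [] && sameV (wd (pow16.getD 8 [])) (wd zSel) && sameV (wd (pow16.getD 0 [])) [] = true := by
  decide +kernel

theorem mul16 : (List.range 16).all (fun i =>
    sameV (wd sndA16 ++ wd (pow16.getD i [])) (wd (mulA16.getD i [])) &&
      sameV (wd sndB16 ++ wd (pow16.getD i [])) (wd (mulB16.getD i []))) = true := by decide +kernel

/-- The pairs that need checking. -/
def pairs (C : List (List (List Bool))) (m : ℕ) : List (ℕ × ℕ) :=
  (List.range m).flatMap fun i =>
    (List.range (if (C.getD i []).length == 1 then 1 else m)).map fun j => (i, j)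

theorem ok16 : (pairs cert16 16).all (fun e =>
    sameV (certWord mulA16 mulB16 e.1 e.2 (lookCert cert16 e.1 e.2)) (wd zSel)) = true := by decide +kernel

theorem single16 : (List.range 16).all (fun i => (cert16.getD i []).length != 1 ||
    (lookCert cert16 i 0).all id) = true := by decide +kernel

theorem chain8 : (List.range 7).all (fun i =>
    sameV (wd (pow8.getD i []) ++ wd gen8) (wd (pow8.getD (i + 1) []))) = true := by decide +kernel

theorem wrap8 : sameV (wd (pow8.getD 0 [])) [] &&
    (sameV (wd (pow8.getD 7 []) ++ wd gen8) [] || sameV (wd (pow8.getD 7 []) ++ wd gen8) (wd zSel)) &&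
    (sameV (wd (pow8.getD 4 [])) (wd zSel1) || sameV (wd (pow8.getD 4 [])) (wd zSel1 ++ wd zSel)) = true := by decide +kernel

theorem mul8 : (List.range 8).all (fun i =>
    sameV (wd sndA8 ++ wd (pow8.getD i [])) (wd (mulA8.getD i [])) &&
      sameV (wd sndB8 ++ wd (pow8.getD i [])) (wd (mulB8.getD i []))) = true := by decide +kernel

theorem ok8 : (pairs cert8 8).all (fun e =>
    sameV (certWord mulA8 mulB8 e.1 e.2 (lookCert cert8 e.1 e.2)) (wd zSel1) ||
      sameV (certWord mulA8 mulB8 e.1 e.2 (lookCert cert8 e.1 e.2)) ((wd zSel1) ++ (wd zSel))) = true := by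
  decide +kernel

theorem single8 : (List.range 8).all (fun i => (cert8.getD i []).length != 1 ||
    (lookCert cert8 i 0).all id) = true := by decide +kernel

theorem central : (blocks seq8).all (fun b => b.all fun x =>
    sameV (x.1 ++ wd zSel) (wd zSel ++ x.1)) = true := by
  decide +kernel

theorem fmap_z : (wd zSel).map (fmap 0) = wd zSel ∧ (wd zSel).map (fmap 1) = wd zSel1 := by
  decide +kernel

theorem z_ne : sameV (wd zSel) [] = false := by decide +kernel

end CfsgLib.TitsTwoTrans
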