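import Cfsg.Agent.TitsTwoTrans.Checks
import Cfsg.Agent.TitsInvolutions.Main

/-!
The Sylow 2-subgroup of the Tits group inside `²F₄(2)` and its certified elements.
-/

set_option autoImplicit false

namespace CfsgLib.TitsTwoTrans

open Cfsg.Lie CfsgLib.Chevalley CfsgLib.TwistedLie CfsgLib.TwistedLie.F4 CfsgLib.TitsInvolutions
open scoped Matrix

local notation "S" => sysF4
local notation "K" => ZMod 2

/-- The Sylow 2-subgroup of `²F₄(2)`. -/
noncomputable def U2 : Subgroup (GL chevF4.Idx K) := chevF4.posUnipotent K ⊓ G

/-- The even part of the Sylow 2-subgroup. -/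
noncomputable def S0 : Subgroup (GL chevF4.Idx K) :=
  chevF4.posUnipotent K ⊓ (commutator ↥G).map G.subtype

theorem S0_le : S0 ≤ U2 := le_inf inf_le_left (inf_le_right.trans (Subgroup.map_subtype_le _))

theorem el_pos {w : List ℕ} (hw : Good w) : el K w ∈ chevF4.posUnipotent K := by
  induction w with
  | nil => rw [el_nil]; exact one_mem _
  | cons r w ih =>
    rw [el_cons]
    obtain ⟨h1, h2⟩ := hw r (List.mem_cons_self ..)
    refine mul_mem (Subgroup.subset_closure ⟨r, 1, ?_, ?_⟩) (ih fun x hx => hw x (List.mem_cons_of_mem _ hx))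
    · exact (Sys.pos_iff S r).mpr ⟨h1, h2⟩
    · rfl

theorem allW_split {A B : List (List (List ℕ × Bool))} : ∀ {x : List ℕ × Bool}, x ∈ allW (A ++ B) →
    ∃ a ∈ allW A, ∃ b ∈ allW B, x = (a.1 ++ b.1, xor a.2 b.2) := by
  induction A with
  | nil =>
    intro x hx
    exact ⟨([], false), by simp [allW], x, hx, by simp⟩
  | cons c A ih =>
    intro x hx
    simp only [List.cons_append, allW, List.mem_flatMap, List.mem_map] at hx
    obtain ⟨c₀, hc₀, y, hy, rfl⟩ := hx
    obtain ⟨a, ha, b, hb, rfl⟩ := ih hy
    refine ⟨(c₀.1 ++ a.1, xor c₀.2 a.2), ?_, b, hb, by simp [List.append_assoc, Bool.xor_assoc]⟩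
    simp only [allW, List.mem_flatMap, List.mem_map]
    exact ⟨c₀, hc₀, a, ha, rfl⟩

theorem word_facts : ∀ {rest : List (Fin 2)}, rest <:+ seq8 → ∀ w ∈ allW (blocks rest),
    el K w.1 ∈ G ∧ ab (el K w.1) = pw w.2 := by
  intro rest
  induction rest with
  | nil =>
    intro _ w hw
    simp only [blocks, allW, List.mem_singleton] at hw
    subst hw
    exact ⟨by rw [el_nil]; exact one_mem _, ab_one⟩
  | cons i rest ih =>
    intro hsuf w hw
    have hsuf' : rest <:+ seq8 := (List.suffix_cons i rest).trans hsuf
    obtain ⟨a, ha, b, hb, rfl⟩ := allW_split hw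
    rw [allW_map, List.mem_map] at ha
    obtain ⟨v, hv, rfl⟩ := ha
    have hb' : b ∈ W i := by
      simp only [allW, List.mem_flatMap, List.mem_map, List.mem_singleton] at hb
      obtain ⟨x, hx, y, rfl, rfl⟩ := hb
      simpa using hx
    obtain ⟨h1, h2⟩ := ih hsuf' v hv
    have hgood := allW_good (blocks_good' hsuf') v hv
    have hbG := W_mem_G i b hb'
    rw [el_append]
    refine ⟨mul_mem (el_mem_map hgood h1) hbG, ?_⟩
    rw [ab_mul (el_mem_map hgood h1) hbG, ab_map hgood h1, h2, ab_W i b hb', pw_xor]

theorem block_mem {b : List (List ℕ × Bool)} (hb : b ∈ blocks seq8) {x : List ℕ × Bool}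
    (hx : x ∈ b) : el K x.1 ∈ G := by
  have key : ∀ bs : List (List (List ℕ × Bool)), (∀ c ∈ bs, (([], false) : List ℕ × Bool) ∈ c) →
      ∀ c ∈ bs, ∀ y ∈ c, y ∈ allW bs := by
    intro bs
    induction bs with
    | nil => intro _ c hc; simp at hc
    | cons d bs ih =>
      intro h0 c hc y hy
      have hnil : (([], false) : List ℕ × Bool) ∈ allW bs := by
        clear ih hc
        have h0' := fun c hc => h0 c (List.mem_cons_of_mem _ hc)
        clear h0
        induction bs with
        | nil => simp [allW]
        | cons e bs ih2 =>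
          simp only [allW, List.mem_flatMap, List.mem_map]
          exact ⟨_, h0' e (List.mem_cons_self ..), _,
            ih2 fun c hc => h0' c (List.mem_cons_of_mem _ hc), by simp⟩
      simp only [allW, List.mem_flatMap, List.mem_map]
      rcases List.mem_cons.mp hc with rfl | hc
      · exact ⟨y, hy, _, hnil, by simp⟩
      · exact ⟨_, h0 d (List.mem_cons_self ..), y,
          ih (fun c hc => h0 c (List.mem_cons_of_mem _ hc)) c hc y hy, by simp⟩
  exact (word_facts (List.suffix_refl _) x (key _ (by decide +kernel) b hb x hx)).1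

theorem pick_mem : ∀ (bs : List (List (List ℕ × Bool))) (s : List ℕ), s.length = bs.length →
    (∀ e ∈ bs.zip s, e.2 < e.1.length) → (pickW bs s, pickF bs s) ∈ allW bs
  | [], [], _, _ => by simp [pickW, pickF, allW]
  | [], _ :: _, h, _ => by simp at h
  | b :: bs, [], h, _ => by simp at h
  | b :: bs, i :: is, h, hlt => by
    simp only [allW, List.mem_flatMap, List.mem_map]
    have hi : i < b.length := hlt (b, i) (by simp)
    refine ⟨b.getD i ([], false), ?_, (pickW bs is, pickF bs is), pick_mem bs is (by simpa using h)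
      (fun e he => hlt e (by simp [he])), rfl⟩
    rw [List.getD_eq_getElem _ _ hi]
    exact List.getElem_mem _

theorem wd_good {s : List ℕ} (h : okSel s = true) : Good (wd s) := by
  simp only [okSel, Bool.and_eq_true, beq_iff_eq, List.all_eq_true, decide_eq_true_eq] at h
  exact allW_good blocks_good _ (pick_mem _ _ (by rw [h.1.1]; rfl) fun e he => h.1.2 e he)

theorem wd_mem {s : List ℕ} (h : okSel s = true) : el K (wd s) ∈ S0 := by
  refine Subgroup.mem_inf.mpr ⟨el_pos (wd_good h), ?_⟩
  simp only [okSel, Bool.and_eq_true, beq_iff_eq, List.all_eq_true, decide_eq_true_eq,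
    Bool.not_eq_true'] at h
  obtain ⟨h1, h2⟩ := word_facts (List.suffix_refl _) _
    (pick_mem (blocks seq8) s (by rw [h.1.1]; rfl) fun e he => h.1.2 e he)
  refine ⟨⟨el K (wd s), h1⟩, ?_, rfl⟩
  rw [SetLike.mem_coe, ← Abelianization.ker_of, MonoidHom.mem_ker]
  simp only [h.2] at h2
  rw [ab, dif_pos h1] at h2
  exact h2.trans (by simp [pw])

/-- Every element of the Sylow subgroup is a word. -/
theorem exists_word {u : GL chevF4.Idx K} (hu : u ∈ U2) :
    ∃ w ∈ allW (blocks seq8), u = el K w.1 := by
  have hL : ∀ s : Fin chevF4.nroots, chevF4.nroots / 2 ≤ (s : ℕ) →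
      ((tw card_field).wW longWord s : ℕ) < chevF4.nroots / 2 := fun s hs => by
    rw [(tw card_field).wW_val (hbl card_field)]
    exact (by decide +kernel : ∀ r < 48, 24 ≤ r → wlW chevF4 blkN longWord r < 24) _ s.isLt hs
  have hu' : u ∈ (tw card_field).flipFix longWord := by
    rw [(tw card_field).U1_eq hL]; exact hu
  obtain ⟨w, hw, e, -, -⟩ :=
    flip_words seq8 longWord (List.suffix_refl _) valid_long same_long u hu'
  exact ⟨w, hw, e⟩

theorem filter_unique {α : Type*} {l : List α} {p : α → Bool} (h : (l.filter p).length = 1) {x y : α}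
    (hx : x ∈ l) (hy : y ∈ l) (px : p x = true) (py : p y = true) : x = y := by
  obtain ⟨a, ha⟩ := List.length_eq_one_iff.mp h
  have e1 : x ∈ l.filter p := List.mem_filter.mpr ⟨hx, px⟩
  have e2 : y ∈ l.filter p := List.mem_filter.mpr ⟨hy, py⟩
  rw [ha, List.mem_singleton] at e1 e2
  rw [e1, e2]

theorem eq_one_of_fix {u : GL chevF4.Idx K} (hu : u ∈ U2)
    (h : (u : Matrix chevF4.Idx chevF4.Idx K) *ᵥ vecOf K 17 = vecOf K 17) : u = 1 := by
  obtain ⟨w, hw, rfl⟩ := exists_word hu
  have hg := allW_good blocks_good w hw
  rw [mulVec_el K hg (by norm_num)] at h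
  have hfix := vecOf_inj K (appW_lt hg (by norm_num)) (by norm_num) h
  have hc := regular
  rw [fwd_eq, List.count_eq_countP, List.countP_map, List.countP_eq_length_filter] at hc
  have h0 : (([], false) : List ℕ × Bool) ∈ allW (blocks seq8) := by
    have := pick_mem (blocks seq8) [0, 0, 0, 0, 0, 0, 0, 0] rfl (by decide +kernel)
    exact this
  have := filter_unique hc hw h0 (by simp [hfix]) (by simp [appW])
  rw [this]
  exact el_nil K

theorem el_eq_of_sameV {a b : List ℕ} (ha : Good a) (hb : Good b) (hA : el K a ∈ U2)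
    (hB : el K b ∈ U2) (h : sameV a b = true) : el K a = el K b := by
  have e : appW a 17 = appW b 17 := by simpa [sameV] using h
  rw [← inv_mul_eq_one]
  refine eq_one_of_fix (mul_mem (inv_mem hA) hB) ?_
  rw [Units.val_mul, ← Matrix.mulVec_mulVec, mulVec_el K hb (by norm_num), ← e,
    ← mulVec_el K ha (by norm_num), Matrix.mulVec_mulVec, ← Units.val_mul, inv_mul_cancel,
    Units.val_one, Matrix.one_mulVec]

/-- A chosen element. -/
noncomputable def ee (s : List ℕ) : ↥S0 :=
  if h : okSel s = true then ⟨el K (wd s), wd_mem h⟩ else 1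

theorem ee_val {s : List ℕ} (h : okSel s = true) : (ee s : GL chevF4.Idx K) = el K (wd s) := by
  rw [ee, dif_pos h]

theorem list_val (L : List (List ℕ)) (h : ∀ s ∈ L, okSel s = true) :
    Good (L.flatMap wd) ∧ ((L.map ee).prod : GL chevF4.Idx K) = el K (L.flatMap wd) := by
  induction L with
  | nil => exact ⟨fun r hr => absurd hr (by simp), by simp [el_nil]⟩
  | cons s L ih =>
    obtain ⟨h1, h2⟩ := ih fun t ht => h t (List.mem_cons_of_mem _ ht)
    have hs := h s (List.mem_cons_self ..)
    refine ⟨fun r hr => ?_, ?_⟩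
    · rw [List.flatMap_cons] at hr
      rcases List.mem_append.mp hr with hr | hr
      · exact wd_good hs r hr
      · exact h1 r hr
    · rw [List.map_cons, List.prod_cons, Subgroup.coe_mul, h2, ee_val hs, List.flatMap_cons,
        el_append]

/-- Equations between products of chosen elements. -/
theorem eq_of_sameV (A B : List (List ℕ)) (hA : ∀ s ∈ A, okSel s = true)
    (hB : ∀ s ∈ B, okSel s = true) (h : sameV (A.flatMap wd) (B.flatMap wd) = true) :
    (A.map ee).prod = (B.map ee).prod := by
  obtain ⟨gA, vA⟩ := list_val A hA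
  obtain ⟨gB, vB⟩ := list_val B hB
  refine Subtype.ext ?_
  rw [vA, vB]
  exact el_eq_of_sameV gA gB (vA ▸ S0_le (Subtype.coe_prop _)) (vB ▸ S0_le (Subtype.coe_prop _)) h

theorem sel_mem {s : List ℕ} (h : s ∈ [zSel, zSel1, gen16, sndA16, sndB16, gen8, sndA8, sndB8] ++
    pow16 ++ mulA16 ++ mulB16 ++ pow8 ++ mulA8 ++ mulB8) : okSel s = true :=
  List.all_eq_true.mp sel_ok s h

theorem getD_mem {α : Type*} (l : List α) (i : ℕ) (d : α) (h : i < l.length) : l.getD i d ∈ l := by
  rw [List.getD_eq_getElem _ _ h]
  exact List.getElem_mem _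

/-- The central involution. -/
noncomputable def zEl : ↥S0 := ee zSel

/-- Its conjugate. -/
noncomputable def zEl1 : ↥S0 := ee zSel1

theorem lookCert_single {C : List (List (List Bool))} {i : ℕ}
    (h : (C.getD i []).length = 1) (j : ℕ) : lookCert C i j = lookCert C i 0 := by
  have hb : ((C.getD i []).length == 1) = true := by simp only [h, beq_self_eq_true]
  simp only [lookCert, hb, if_true]

theorem certWord_eq (A B : List (List ℕ)) (i j : ℕ) (l : List Bool) :
    certWord A B i j l = (l.map fun u => if u then A.getD i [] else B.getD j []).flatMap wd := by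
  rw [certWord, List.flatMap_map]
  refine congrArg (fun f => List.flatMap f l) (funext fun u => ?_)
  cases u <;> rfl

/-- From the checks to equations in the group. -/
theorem chain_eq {g : List ℕ} (hg : okSel g = true) (T : List (List ℕ)) (m : ℕ)
    (hT : ∀ i < m + 1, okSel (T.getD i []) = true) (h0 : sameV (wd (T.getD 0 [])) [] = true)
    (hc : ∀ i < m, sameV (wd (T.getD i []) ++ wd g) (wd (T.getD (i + 1) [])) = true) :
    ∀ i < m + 1, ee g ^ i = ee (T.getD i []) := by
  intro i hi
  induction i with
  | zero =>
    have := eq_of_sameV [T.getD 0 []] [] (by simpa using hT 0 hi) (by simp) (by simpa using h0)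
    simpa using this.symm
  | succ i ih =>
    have h1 := eq_of_sameV [T.getD i [], g] [T.getD (i + 1) []]
      (by simp only [List.forall_mem_cons]; exact ⟨hT i (by omega), hg, fun _ h => absurd h (by simp)⟩)
      (by simpa using hT (i + 1) hi) (by simpa using hc i (by omega))
    simp only [List.map_cons, List.map_nil, List.prod_cons, List.prod_nil, mul_one] at h1
    rw [pow_succ, ih (by omega), h1]

theorem cert_eq (P A B : List (List ℕ)) (g b c : List ℕ) (m : ℕ)
    (hb : okSel b = true) (hc : okSel c = true)
    (hP : ∀ i < m, okSel (P.getD i []) = true) (hA : ∀ i < m, okSel (A.getD i []) = true)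
    (hB : ∀ i < m, okSel (B.getD i []) = true) (hpow : ∀ i < m, ee g ^ i = ee (P.getD i []))
    (hmul : ∀ i < m, sameV (wd b ++ wd (P.getD i [])) (wd (A.getD i [])) = true ∧
      sameV (wd c ++ wd (P.getD i [])) (wd (B.getD i [])) = true) :
    ∀ i < m, ∀ j < m, ∀ (l : List Bool) (R : List (List ℕ)), (∀ s ∈ R, okSel s = true) →
      sameV (certWord A B i j l) (R.flatMap wd) = true →
        (l.map fun u => if u then ee b * ee g ^ i else ee c * ee g ^ j).prod = (R.map ee).prod := by
  intro i hi j hj l R hR h
  have hx : ee b * ee g ^ i = ee (A.getD i []) := by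
    rw [hpow i hi]
    simpa using eq_of_sameV [b, P.getD i []] [A.getD i []]
      (by simp only [List.forall_mem_cons]; exact ⟨hb, hP i hi, fun _ h => absurd h (by simp)⟩)
      (by simpa using hA i hi) (by simpa using (hmul i hi).1)
  have hy : ee c * ee g ^ j = ee (B.getD j []) := by
    rw [hpow j hj]
    simpa using eq_of_sameV [c, P.getD j []] [B.getD j []]
      (by simp only [List.forall_mem_cons]; exact ⟨hc, hP j hj, fun _ h => absurd h (by simp)⟩)
      (by simpa using hB j hj) (by simpa using (hmul j hj).2)
  rw [hx, hy]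
  have hok : ∀ s ∈ l.map (fun u => if u then A.getD i [] else B.getD j []), okSel s = true := by
    intro s hs
    obtain ⟨u, -, rfl⟩ := List.mem_map.mp hs
    cases u
    · exact hB j hj
    · exact hA i hi
  rw [certWord_eq] at h
  rw [← eq_of_sameV _ R hok hR h, List.map_map]
  congr 1
  refine List.map_congr_left fun u _ => ?_
  cases u <;> rfl

theorem mem_pairs {C : List (List (List Bool))} {m i j : ℕ} (hi : i < m) (hj : j < m)
    (h : (C.getD i []).length ≠ 1) : (i, j) ∈ pairs C m := by
  simp only [pairs, List.mem_flatMap, List.mem_map, List.mem_range, beq_iff_eq]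
  exact ⟨i, hi, j, by rw [if_neg h]; exact hj, rfl⟩

theorem mem_pairs_zero {C : List (List (List Bool))} {m i : ℕ} (hi : i < m) (hm : 0 < m) :
    (i, 0) ∈ pairs C m := by
  simp only [pairs, List.mem_flatMap, List.mem_map, List.mem_range]
  refine ⟨i, hi, 0, ?_, rfl⟩
  split_ifs <;> omega

theorem certWord_single {A B : List (List ℕ)} {C : List (List (List Bool))} {i : ℕ}
    (h : (C.getD i []).length = 1) (hall : (lookCert C i 0).all id = true) (j : ℕ) :
    certWord A B i j (lookCert C i j) = certWord A B i 0 (lookCert C i 0) := by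
  rw [lookCert_single h j, certWord, certWord]
  refine List.flatMap_congr fun u hu => ?_
  have : id u = true := List.all_eq_true.mp hall u hu
  simp only [id] at this
  simp [this]

/-- Witnesses for orbits of at most sixteen points. -/
theorem cert_sixteen : ∃ a b c : ↥S0, a ^ 16 = 1 ∧ a ^ 8 = zEl ∧
    ∀ i < 16, ∀ j < 16, ∃ l : List Bool,
      (l.map fun u => if u then b * a ^ i else c * a ^ j).prod = zEl := by
  have hP : ∀ i < 16, okSel (pow16.getD i []) = true := fun i hi =>
    sel_mem (by
      have := getD_mem pow16 i [] hi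
      simp only [List.mem_append]
      tauto)
  have hA : ∀ i < 16, okSel (mulA16.getD i []) = true := fun i hi =>
    sel_mem (by
      have := getD_mem mulA16 i [] hi
      simp only [List.mem_append]
      tauto)
  have hB : ∀ i < 16, okSel (mulB16.getD i []) = true := fun i hi =>
    sel_mem (by
      have := getD_mem mulB16 i [] hi
      simp only [List.mem_append]
      tauto)
  have hg : okSel gen16 = true := sel_mem (by simp)
  have hz : okSel zSel = true := sel_mem (by simp)
  have hw := wrap16
  simp only [Bool.and_eq_true] at hw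
  have hpow := chain_eq hg pow16 15 hP hw.2 fun i hi =>
    List.all_eq_true.mp chain16 i (List.mem_range.mpr hi)
  refine ⟨ee gen16, ee sndA16, ee sndB16, ?_, ?_, fun i hi j hj => ⟨lookCert cert16 i j, ?_⟩⟩
  · rw [pow_succ, hpow 15 (by norm_num)]
    have := eq_of_sameV [pow16.getD 15 [], gen16] []
      (by simp only [List.forall_mem_cons]; exact ⟨hP 15 (by norm_num), hg, fun _ h => absurd h (by simp)⟩)
      (by simp) (by simpa using hw.1.1)
    simpa using this
  · rw [hpow 8 (by norm_num)]
    have := eq_of_sameV [pow16.getD 8 []] [zSel] (by simpa using hP 8 (by norm_num))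
      (by simpa using hz) (by simpa using hw.1.2)
    simpa [zEl] using this
  · have h := cert_eq pow16 mulA16 mulB16 gen16 sndA16 sndB16 16 (sel_mem (by simp))
      (sel_mem (by simp)) hP hA hB hpow (fun k hk => by
        simpa using List.all_eq_true.mp mul16 k (List.mem_range.mpr hk)) i hi j hj
      (lookCert cert16 i j) [zSel] (by simpa using hz) ?_
    · simpa [zEl] using h
    · simp only [List.flatMap_cons, List.flatMap_nil, List.append_nil]
      by_cases h1 : (cert16.getD i []).length = 1
      · have hall : (lookCert cert16 i 0).all id = true := by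
          have h2 := List.all_eq_true.mp single16 i (List.mem_range.mpr hi)
          have hb : ((cert16.getD i []).length != 1) = false := by simp only [h1, bne_self_eq_false]
          rwa [hb, Bool.false_or] at h2
        rw [certWord_single h1 hall]
        exact List.all_eq_true.mp ok16 (i, 0) (mem_pairs_zero hi (by norm_num))
      · exact List.all_eq_true.mp ok16 (i, j) (mem_pairs hi hj h1)

/-- Witnesses for orbits of at most eight points. -/
theorem cert_eight : ∃ a b c : ↥S0, (a ^ 8 = 1 ∨ a ^ 8 = zEl) ∧
    (a ^ 4 = zEl1 ∨ a ^ 4 = zEl1 * zEl) ∧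
    ∀ i < 8, ∀ j < 8, ∃ l : List Bool,
      (l.map fun u => if u then b * a ^ i else c * a ^ j).prod = zEl1 ∨
      (l.map fun u => if u then b * a ^ i else c * a ^ j).prod = zEl1 * zEl := by
  have hP : ∀ i < 8, okSel (pow8.getD i []) = true := fun i hi =>
    sel_mem (by
      have := getD_mem pow8 i [] hi
      simp only [List.mem_append]
      tauto)
  have hA : ∀ i < 8, okSel (mulA8.getD i []) = true := fun i hi =>
    sel_mem (by
      have := getD_mem mulA8 i [] hi
      simp only [List.mem_append]
      tauto)
  have hB : ∀ i < 8, okSel (mulB8.getD i []) = true := fun i hi =>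
    sel_mem (by
      have := getD_mem mulB8 i [] hi
      simp only [List.mem_append]
      tauto)
  have hg : okSel gen8 = true := sel_mem (by simp)
  have hz : okSel zSel = true := sel_mem (by simp)
  have hz1 : okSel zSel1 = true := sel_mem (by simp)
  have hw := wrap8
  simp only [Bool.and_eq_true, Bool.or_eq_true] at hw
  have hpow := chain_eq hg pow8 7 hP hw.1.1 fun i hi =>
    List.all_eq_true.mp chain8 i (List.mem_range.mpr hi)
  have hzz : ∀ s ∈ [zSel1, zSel], okSel s = true := by
    simp only [List.forall_mem_cons]; exact ⟨hz1, hz, fun _ h => absurd h (by simp)⟩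
  refine ⟨ee gen8, ee sndA8, ee sndB8, ?_, ?_, fun i hi j hj => ⟨lookCert cert8 i j, ?_⟩⟩
  · rw [pow_succ, hpow 7 (by norm_num)]
    have hp : ∀ s ∈ [pow8.getD 7 [], gen8], okSel s = true := by
      simp only [List.forall_mem_cons]; exact ⟨hP 7 (by norm_num), hg, fun _ h => absurd h (by simp)⟩
    rcases hw.1.2 with h | h
    · exact Or.inl (by simpa using eq_of_sameV _ [] hp (by simp) (by simpa using h))
    · exact Or.inr (by simpa [zEl] using eq_of_sameV _ [zSel] hp (by simpa using hz) (by simpa using h))
  · rw [hpow 4 (by norm_num)]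
    rcases Bool.or_eq_true_iff.mp (of_decide_eq_true (Bool.and_eq_true_iff.mp wrap8).2) with h' | h'
    · exact Or.inl (by
        simpa [zEl1] using eq_of_sameV [pow8.getD 4 []] [zSel1] (by simpa using hP 4 (by norm_num))
          (by simpa using hz1) (by simpa using h'))
    · exact Or.inr (by
        simpa [zEl, zEl1] using eq_of_sameV [pow8.getD 4 []] [zSel1, zSel]
          (by simpa using hP 4 (by norm_num)) hzz (by simpa using h'))
  · have h := cert_eq pow8 mulA8 mulB8 gen8 sndA8 sndB8 8 (sel_mem (by simp))
      (sel_mem (by simp)) hP hA hB hpow (fun k hk => by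
        simpa using List.all_eq_true.mp mul8 k (List.mem_range.mpr hk)) i hi j hj
      (lookCert cert8 i j)
    have hok : sameV (certWord mulA8 mulB8 i j (lookCert cert8 i j)) (wd zSel1) = true ∨
        sameV (certWord mulA8 mulB8 i j (lookCert cert8 i j)) (wd zSel1 ++ wd zSel) = true := by
      rw [← Bool.or_eq_true]
      by_cases h1 : (cert8.getD i []).length = 1
      · have hall : (lookCert cert8 i 0).all id = true := by
          have h2 := List.all_eq_true.mp single8 i (List.mem_range.mpr hi)
          have hb : ((cert8.getD i []).length != 1) = false := by simp only [h1, bne_self_eq_false]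
          rwa [hb, Bool.false_or] at h2
        rw [certWord_single h1 hall]
        exact List.all_eq_true.mp ok8 (i, 0) (mem_pairs_zero hi (by norm_num))
      · exact List.all_eq_true.mp ok8 (i, j) (mem_pairs hi hj h1)
    rcases hok with e | e
    · exact Or.inl (by simpa [zEl1] using h [zSel1] (by simpa using hz1) (by simpa using e))
    · exact Or.inr (by simpa [zEl, zEl1] using h [zSel1, zSel] hzz (by simpa using e))

/-- The involution commutes with the Sylow subgroup. -/
theorem zEl_central {u : GL chevF4.Idx K} (hu : u ∈ U2) :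
    u * (zEl : GL chevF4.Idx K) = (zEl : GL chevF4.Idx K) * u := by
  have hz : okSel zSel = true := sel_mem (by simp)
  obtain ⟨w, hw, rfl⟩ := exists_word hu
  rw [zEl, ee_val hz]
  have hzU : el K (wd zSel) ∈ U2 := S0_le (wd_mem hz)
  have key : ∀ bs : List (List (List ℕ × Bool)), (∀ b ∈ bs, ∀ x ∈ b,
      el K x.1 * el K (wd zSel) = el K (wd zSel) * el K x.1) → ∀ w ∈ allW bs,
      el K w.1 * el K (wd zSel) = el K (wd zSel) * el K w.1 := by
    intro bs
    induction bs with
    | nil =>
      intro _ w hw
      simp only [allW, List.mem_singleton] at hw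
      subst hw
      rw [el_nil, one_mul, mul_one]
    | cons b bs ih =>
      intro h w hw
      simp only [allW, List.mem_flatMap, List.mem_map] at hw
      obtain ⟨x, hx, y, hy, rfl⟩ := hw
      rw [el_append, mul_assoc, ih (fun c hc => h c (List.mem_cons_of_mem _ hc)) y hy, ← mul_assoc,
        h b (List.mem_cons_self ..) x hx, mul_assoc]
  refine key _ (fun b hb x hx => ?_) w hw
  have hgx : Good x.1 := blocks_good b hb x hx
  have hxU : el K x.1 ∈ U2 := by
    refine ⟨el_pos hgx, ?_⟩
    exact block_mem hb hx
  rw [← el_append, ← el_append]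
  refine el_eq_of_sameV (fun r hr => ?_) (fun r hr => ?_) (by rw [el_append]; exact mul_mem hxU hzU)
    (by rw [el_append]; exact mul_mem hzU hxU) ?_
  · rcases List.mem_append.mp hr with hr | hr
    exacts [hgx r hr, wd_good hz r hr]
  · rcases List.mem_append.mp hr with hr | hr
    exacts [wd_good hz r hr, hgx r hr]
  · exact List.all_eq_true.mp (List.all_eq_true.mp central b hb) x hx

theorem zEl_ne : zEl ≠ 1 := by
  intro h
  have hz : okSel zSel = true := sel_mem (by simp)
  have e : el K (wd zSel) = el K [] := by
    rw [← ee_val hz, el_nil]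
    exact congrArg Subtype.val h
  have h2 := congrArg (fun g : GL chevF4.Idx K =>
    (g : Matrix chevF4.Idx chevF4.Idx K) *ᵥ vecOf K 17) e
  simp only [mulVec_el K (wd_good hz) (show (17 : ℕ) < 2 ^ 52 by norm_num),
    mulVec_el K (w := []) (fun r hr => absurd hr (by simp)) (show (17 : ℕ) < 2 ^ 52 by norm_num)] at h2
  have h3 := vecOf_inj K (appW_lt (wd_good hz) (by norm_num))
    (appW_lt (w := []) (fun r hr => absurd hr (by simp)) (by norm_num)) h2
  have := z_ne
  simp [sameV, h3] at this

/-- The two twisted reflections send the involution to itself and to its conjugate. -/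
theorem conj_zEl : (nn 0)⁻¹ * (zEl : GL chevF4.Idx K) * nn 0 = zEl ∧
    (nn 1)⁻¹ * (zEl : GL chevF4.Idx K) * nn 1 = zEl1 := by
  have hz : okSel zSel = true := sel_mem (by simp)
  have hz1 : okSel zSel1 = true := sel_mem (by simp)
  rw [zEl, zEl1, ee_val hz, ee_val hz1, conj_el 0 (wd_good hz), conj_el 1 (wd_good hz), fmap_z.1,
    fmap_z.2]
  exact ⟨rfl, rfl⟩

end CfsgLib.TitsTwoTrans
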