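import Mathlib.Dynamics.PeriodicPts.Lemmas
import Mathlib.GroupTheory.GroupAction.MultipleTransitivity
import Mathlib.GroupTheory.Index
import Mathlib.GroupTheory.PGroup
import Mathlib.Tactic

/-!
Orbits of at most `2 ^ (k + 1)` points: a cycle of that length covers the orbit.
-/

set_option autoImplicit false

namespace CfsgLib.TitsTwoTrans

variable {P Ω : Type*} [Group P] (ρ : P →* Equiv.Perm Ω)

theorem iterate_map (a : P) (i : ℕ) (x : Ω) : (⇑(ρ a))^[i] x = ρ (a ^ i) x := by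
  rw [map_pow]
  induction i generalizing x with
  | zero => rfl
  | succ i ih => rw [Function.iterate_succ_apply, ih, pow_succ, Equiv.Perm.mul_apply]

/-- Every coset of the cyclic group meets the stabiliser. -/
theorem exists_mul_pow_fix [Finite Ω] (a b : P) (p : Ω) (k : ℕ)
    (hm : ρ (a ^ 2 ^ (k + 1)) p = p) (hne : ρ (a ^ 2 ^ k) p ≠ p)
    (hcard : (Set.range fun g => ρ g p).ncard ≤ 2 ^ (k + 1)) :
    ∃ i < 2 ^ (k + 1), ρ (b * a ^ i) p = p := by
  classical
  haveI : Fact (Nat.Prime 2) := ⟨Nat.prime_two⟩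
  have hmin : Function.minimalPeriod (ρ a) p = 2 ^ (k + 1) :=
    Function.minimalPeriod_eq_prime_pow
      (fun h => hne (by rw [← iterate_map ρ]; exact h))
      (by show _ = p; rw [iterate_map ρ]; exact hm)
  have hinj : Set.InjOn (fun i => ρ (a ^ i) p) (Set.Iio (2 ^ (k + 1))) := by
    have h := Function.iterate_injOn_Iio_minimalPeriod (f := ⇑(ρ a)) (x := p)
    rw [hmin] at h
    intro i hi j hj e
    exact h hi hj (by simp only [iterate_map ρ]; exact e)
  have himg : (fun i => ρ (a ^ i) p) '' Set.Iio (2 ^ (k + 1)) = Set.range fun g => ρ g p := by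
    refine Set.eq_of_subset_of_ncard_le ?_ ?_ (Set.toFinite _)
    · rintro _ ⟨i, -, rfl⟩
      exact ⟨a ^ i, rfl⟩
    · rw [hinj.ncard_image, ← Finset.coe_Iio, Set.ncard_coe_finset, Nat.card_Iio]
      exact hcard
  have hb : ρ b⁻¹ p ∈ Set.range fun g => ρ g p := ⟨b⁻¹, rfl⟩
  rw [← himg] at hb
  obtain ⟨i, hi, e⟩ := hb
  refine ⟨i, hi, ?_⟩
  simp only at e
  rw [map_mul, Equiv.Perm.mul_apply, e, ← Equiv.Perm.mul_apply, ← map_mul, mul_inv_cancel, map_one,
    Equiv.Perm.one_apply]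

theorem prod_fix (p : Ω) (L : List P) (h : ∀ x ∈ L, ρ x p = p) : ρ L.prod p = p := by
  induction L with
  | nil => simp
  | cons x L ih =>
    rw [List.prod_cons, map_mul, Equiv.Perm.mul_apply,
      ih fun y hy => h y (List.mem_cons_of_mem _ hy), h x (List.mem_cons_self ..)]

/-- Certified words force a fixed point. -/
theorem fix_of_cert [Finite Ω] (a b c : P) (p : Ω) (k : ℕ) (tgt : P → Prop) (t : P)
    (htgt : ∀ g, tgt g → ρ g p = p → ρ t p = p)
    (hm : ρ (a ^ 2 ^ (k + 1)) p = p) (hne : ρ t p ≠ p → ρ (a ^ 2 ^ k) p ≠ p)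
    (hcert : ∀ i < 2 ^ (k + 1), ∀ j < 2 ^ (k + 1), ∃ l : List Bool,
      tgt (l.map fun u => if u then b * a ^ i else c * a ^ j).prod)
    (hcard : (Set.range fun g => ρ g p).ncard ≤ 2 ^ (k + 1)) : ρ t p = p := by
  by_contra hne'
  obtain ⟨i, hi, ei⟩ := exists_mul_pow_fix ρ a b p k hm (hne hne') hcard
  obtain ⟨j, hj, ej⟩ := exists_mul_pow_fix ρ a c p k hm (hne hne') hcard
  obtain ⟨l, hl⟩ := hcert i hi j hj
  refine hne' (htgt _ hl (prod_fix ρ p _ fun x hx => ?_))
  obtain ⟨u, -, rfl⟩ := List.mem_map.mp hx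
  cases u
  · exact ej
  · exact ei

end CfsgLib.TitsTwoTrans
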