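import Cfsg.Agent.TitsTwoTrans.Facts
import Cfsg.Agent.TitsTwoTrans.Orbit

/-!
The Tits group has no faithful doubly transitive action.
-/

set_option autoImplicit false

namespace CfsgLib.TitsTwoTrans

open Cfsg.Lie CfsgLib.Chevalley CfsgLib.TwistedLie CfsgLib.TwistedLie.F4 CfsgLib.TitsInvolutions

local notation "S" => sysF4
local notation "K" => ZMod 2

/-- The inclusion in the Tits group. -/
noncomputable def iota : ↥S0 →* ↥(commutator ↥G) where
  toFun s := ⟨⟨(s : GL chevF4.Idx K), (S0_le s.2).2⟩,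
    (Subgroup.mem_map_iff_mem G.subtype_injective).mp s.2.2⟩
  map_one' := rfl
  map_mul' _ _ := rfl

theorem iota_injective : Function.Injective iota := fun a b h =>
  Subtype.ext (congrArg (fun t : ↥(commutator ↥G) => ((t : ↥G) : GL chevF4.Idx K)) h)

theorem card_U2 : Nat.card ↥U2 = 2 ^ 12 := card_U card_field

theorem card_G2 : Nat.card ↥G = 2 ^ 12 * 8775 := by
  show Nat.card ↥(tw card_field).G = _
  rw [card_group card_field]
  norm_num

theorem range_iota : iota.range =
    (U2.subgroupOf G).subgroupOf (commutator ↥G) := by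
  ext t
  constructor
  · rintro ⟨s, rfl⟩
    exact S0_le s.2
  · intro h
    rw [Subgroup.mem_subgroupOf, Subgroup.mem_subgroupOf] at h
    exact ⟨⟨_, ⟨h.1, Subgroup.mem_map_of_mem G.subtype t.2⟩⟩, rfl⟩

theorem odd_index : ¬ 2 ∣ iota.range.index := by
  have hX : (U2.subgroupOf G).index = 8775 := by
    have h := (U2.subgroupOf G).card_mul_index
    rw [Nat.card_congr (Subgroup.subgroupOfEquivOfLe (show U2 ≤ G from inf_le_right)).toEquiv, card_U2,
      card_G2] at h
    exact Nat.eq_of_mul_eq_mul_left (by norm_num) h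
  set X := U2.subgroupOf G with hXdef
  set T := commutator ↥G with hTdef
  have h1 := Subgroup.relIndex_mul_relIndex (X ⊓ T) T (X ⊔ T) inf_le_right le_sup_right
  have h2 := Subgroup.relIndex_mul_relIndex (X ⊓ T) X (X ⊔ T) inf_le_left le_sup_left
  rw [Subgroup.inf_relIndex_left] at h2
  rw [Subgroup.inf_relIndex_right, Subgroup.relIndex_sup_right] at h1
  rw [range_iota]
  change ¬ 2 ∣ X.relIndex T
  have h3 : X.relIndex T * T.relIndex X = T.relIndex X * X.relIndex (X ⊔ T) := h1.trans h2.symm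
  rw [mul_comm] at h3
  rw [Nat.eq_of_mul_eq_mul_left (Nat.pos_of_ne_zero Subgroup.index_ne_zero_of_finite) h3]
  intro hd
  have := hd.trans (Subgroup.relIndex_dvd_index_of_le (le_sup_left : X ≤ X ⊔ T))
  rw [hX] at this
  norm_num at this

theorem isPGroup_range : IsPGroup 2 ↥iota.range := by
  have h : IsPGroup 2 ↥U2 := IsPGroup.of_card card_U2
  exact (h.to_le S0_le).of_surjective iota.rangeRestrict iota.rangeRestrict_surjective

variable {Ω : Type*} [Finite Ω]

/-- Points in small orbits are fixed by the involution. -/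
theorem fix_sixteen (ρ : ↥S0 →* Equiv.Perm Ω) (p : Ω)
    (h : (Set.range fun s => ρ s p).ncard ≤ 16) : ρ zEl p = p := by
  obtain ⟨a, b, c, h16, h8, hc⟩ := cert_sixteen
  refine fix_of_cert ρ a b c p 3 (fun g => g = zEl) zEl (fun g hg hp => hg ▸ hp)
    (by simp [h16]) (fun hne => by rw [show (2 : ℕ) ^ 3 = 8 from rfl, h8]; exact hne) hc h

theorem fix_eight (ρ : ↥S0 →* Equiv.Perm Ω) (p : Ω)
    (h : (Set.range fun s => ρ s p).ncard ≤ 8) : ρ zEl1 p = p := by
  have hz := fix_sixteen ρ p (h.trans (by norm_num))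
  obtain ⟨a, b, c, h8, h4, hc⟩ := cert_eight
  refine fix_of_cert ρ a b c p 2 (fun g => g = zEl1 ∨ g = zEl1 * zEl) zEl1 ?_ ?_ ?_ hc h
  · rintro g (rfl | rfl) hp
    · exact hp
    · rwa [map_mul, Equiv.Perm.mul_apply, hz] at hp
  · rcases h8 with h8 | h8
    · simp [h8]
    · simpa [h8] using hz
  · intro hne
    rw [show (2 : ℕ) ^ 2 = 4 from rfl]
    rcases h4 with h4 | h4
    · rwa [h4]
    · rwa [h4, map_mul, Equiv.Perm.mul_apply, hz]

theorem diag_trivial {g : GL chevF4.Idx K} (hg : g ∈ chevF4.diagonalSubgroup K) : g = 1 := by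
  rw [Sys.diagonal_eq S] at hg
  obtain ⟨c, rfl⟩ := hg
  rw [show c = 1 from funext fun i => Units.ext (by
    rcases zmod_two ((c i : K)) with h | h
    · exact absurd h (c i).ne_zero
    · simp [h]), map_one]

theorem nn_sq (i : Fin 2) : nn i * nn i = 1 := by
  have h := (tw card_field).T_le ((tw card_field).n_sq i)
  change (Sys.wN S K (blkF i) : GL chevF4.Idx K) * (Sys.wN S K (blkF i) : GL chevF4.Idx K) ∈ _ at h
  rw [nn_eq i] at h
  exact diag_trivial h

theorem conj_nn_mem (i : Fin 2) {u : GL chevF4.Idx K} (hu : u ∈ G) :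
    u * nn i * u⁻¹ ∈ (commutator ↥G).map G.subtype := by
  set g : ↥G := ⟨u, hu⟩ * ⟨nn i, nn_mem i⟩ * ⟨u, hu⟩⁻¹ with hg
  refine ⟨g, ?_, rfl⟩
  have hn : (⟨nn i, nn_mem i⟩ : ↥G) ^ 2 = 1 := Subtype.ext (by
    rw [SubmonoidClass.coe_pow, pow_two]; exact nn_sq i)
  have h2 : g ^ 2 = 1 := by rw [hg, conj_pow, hn, mul_one, mul_inv_cancel]
  rcases (Nat.dvd_prime Nat.prime_two).mp (orderOf_dvd_of_pow_eq_one h2) with h | h
  · rw [orderOf_eq_one_iff.mp h]; exact one_mem _
  · exact mem_commutator_of_orderOf g h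

/-- The generators of the Tits group used below. -/
def genSet : Set (GL chevF4.Idx K) :=
  (S0 : Set (GL chevF4.Idx K)) ∪ {g | ∃ u ∈ U2, ∃ i : Fin 2, g = u * nn i * u⁻¹}

theorem U2_normalizes {u s : GL chevF4.Idx K} (hu : u ∈ U2) (hs : s ∈ S0) : u * s * u⁻¹ ∈ S0 := by
  refine Subgroup.mem_inf.mpr ⟨mul_mem (mul_mem hu.1 hs.1) (inv_mem hu.1), ?_⟩
  obtain ⟨t, ht, rfl⟩ := hs.2
  have hn : (commutator ↥G).Normal := Subgroup.commutator_normal _ _
  have hg : u ∈ G := hu.2
  generalize hX : commutator ↥G = X at ht hn ⊢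
  let g : ↥G := ⟨u, hg⟩
  have hc : g * t * g⁻¹ ∈ X := hn.conj_mem t (SetLike.mem_coe.mp ht) g
  exact ⟨g * t * g⁻¹, SetLike.mem_coe.mpr hc, rfl⟩

theorem conj_genSet {u g : GL chevF4.Idx K} (hu : u ∈ U2) (hg : g ∈ Subgroup.closure genSet) :
    u * g * u⁻¹ ∈ Subgroup.closure genSet := by
  refine closure_conj_mem ?_ hg
  rintro x (hx | ⟨v, hv, i, rfl⟩)
  · exact Subgroup.subset_closure (Or.inl (U2_normalizes hu hx))
  · exact Subgroup.subset_closure (Or.inr ⟨u * v, mul_mem hu hv, i, by simp [mul_assoc]⟩)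

theorem decompose {g : GL chevF4.Idx K} (hg : g ∈ G) :
    ∃ k ∈ Subgroup.closure genSet, ∃ u ∈ U2, g = k * u := by
  have hcl := (tw card_field).gens hg
  clear hg
  have key : ∀ x ∈ U2, ∀ y : GL chevF4.Idx K, (∃ k ∈ Subgroup.closure genSet, ∃ u ∈ U2, y = k * u) →
      ∃ k ∈ Subgroup.closure genSet, ∃ u ∈ U2, x * y = k * u := by
    rintro x hx y ⟨k, hk, u, hu, rfl⟩
    exact ⟨x * k * x⁻¹, conj_genSet hx hk, x * u, mul_mem hx hu, by group⟩
  have hX : ∀ i, ∀ x ∈ (tw card_field).X i, x ∈ U2 := fun i x hx =>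
    ⟨uSub_le_posUnipotent K _ ((tw card_field).X_le i hx), (tw card_field).X_mem i hx⟩
  have hn : ∀ i : Fin 2, nn i ∈ Subgroup.closure genSet := fun i =>
    Subgroup.subset_closure (Or.inr ⟨1, one_mem _, i, by simp⟩)
  induction hcl using Subgroup.closure_induction_left with
  | one => exact ⟨1, one_mem _, 1, one_mem _, (mul_one _).symm⟩
  | mul_left x hx y _ ih =>
    rcases hx with (⟨i, hx⟩ | hx) | ⟨i, rfl⟩
    · exact key x (hX i x hx) y ih
    · obtain rfl := diag_trivial ((tw card_field).T_le hx)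
      rwa [one_mul]
    · obtain ⟨k, hk, u, hu, rfl⟩ := ih
      exact ⟨nn i * k, mul_mem (hn i) hk, u, hu, by
        rw [← mul_assoc, show (Sys.wN S K ((tw card_field).blk i) : GL chevF4.Idx K) = nn i from
          nn_eq i]⟩
  | inv_mul_cancel x hx y _ ih =>
    rcases hx with (⟨i, hx⟩ | hx) | ⟨i, rfl⟩
    · exact key x⁻¹ (inv_mem (hX i x hx)) y ih
    · obtain rfl := diag_trivial ((tw card_field).T_le hx)
      rwa [inv_one, one_mul]
    · obtain ⟨k, hk, u, hu, rfl⟩ := ih
      exact ⟨(nn i)⁻¹ * k, mul_mem (inv_mem (hn i)) hk, u, hu, by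
        rw [← mul_assoc, show (Sys.wN S K ((tw card_field).blk i) : GL chevF4.Idx K) = nn i from
          nn_eq i]⟩

theorem generated (t : ↥(commutator ↥G)) :
    ((t : ↥G) : GL chevF4.Idx K) ∈ Subgroup.closure genSet := by
  obtain ⟨k, hk, u, hu, e⟩ := decompose (t : ↥G).2
  have hle : Subgroup.closure genSet ≤ (commutator ↥G).map G.subtype := by
    rw [Subgroup.closure_le]
    rintro x (hx | ⟨v, hv, i, rfl⟩)
    · exact hx.2
    · exact conj_nn_mem i hv.2
  have huS : u ∈ S0 := by
    refine Subgroup.mem_inf.mpr ⟨hu.1, ?_⟩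
    have : u = k⁻¹ * ((t : ↥G) : GL chevF4.Idx K) := by rw [e]; group
    rw [this]
    exact mul_mem (inv_mem (hle hk)) (Subgroup.mem_map_of_mem G.subtype t.2)
  rw [e]
  exact mul_mem hk (Subgroup.subset_closure (Or.inl huS))

theorem degree_check : (List.range 6000).all (fun n =>
    n < 3 || (2 ^ 12 * 8775) % (n * (n - 1)) != 0 || n < 32 || n == 40 || n == 65) = true := by
  decide +kernel

theorem degree_cases (n : ℕ) (hn : n < 6000) (h3 : 3 ≤ n) (hd : n * (n - 1) ∣ 2 ^ 12 * 8775) :
    n < 32 ∨ n = 40 ∨ n = 65 := by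
  have h := List.all_eq_true.mp degree_check n (List.mem_range.mpr hn)
  simp only [Bool.or_eq_true, decide_eq_true_eq, bne_iff_ne, beq_iff_eq] at h
  rcases h with (((h | h) | h) | h) | h <;> first | omega | exact absurd (Nat.mod_eq_zero_of_dvd hd) h

section action

variable [MulAction ↥(commutator ↥G) Ω]

/-- The permutations of the Sylow subgroup. -/
noncomputable def rho : ↥S0 →* Equiv.Perm Ω :=
  (MulAction.toPermHom ↥(commutator ↥G) Ω).comp iota

theorem rho_apply (s : ↥S0) (p : Ω) : rho (Ω := Ω) s p = iota s • p := rfl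

/-- The orbit of the Sylow subgroup. -/
def orb (p : Ω) : Set Ω := Set.range fun s => rho (Ω := Ω) s p

theorem orb_eq (p : Ω) : orb p = MulAction.orbit ↥iota.range p := by
  ext q
  constructor
  · rintro ⟨s, rfl⟩
    exact ⟨⟨iota s, s, rfl⟩, rfl⟩
  · rintro ⟨⟨_, s, rfl⟩, rfl⟩
    exact ⟨s, rfl⟩

theorem orb_index (p : Ω) : (orb p).ncard = (MulAction.stabilizer ↥iota.range p).index := by
  rw [orb_eq, MulAction.index_stabilizer]

theorem orb_pow (p : Ω) : ∃ k, (orb p).ncard = 2 ^ k := by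
  haveI : Fact (Nat.Prime 2) := ⟨Nat.prime_two⟩
  rw [orb_index]
  exact isPGroup_range.index _

theorem dvd_orb {p : Ω} {d : ℕ} {H : Subgroup ↥(commutator ↥G)} (hd : d ∣ H.index)
    (hle : MulAction.stabilizer ↥(commutator ↥G) p ⊓ iota.range ≤ H) :
    d ∣ (orb p).ncard * iota.range.index := by
  refine hd.trans ((Subgroup.index_dvd_of_le hle).trans ?_)
  rw [← Subgroup.relIndex_mul_index (inf_le_right :
    MulAction.stabilizer ↥(commutator ↥G) p ⊓ iota.range ≤ iota.range), Subgroup.inf_relIndex_right,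
    orb_index]
  exact dvd_of_eq rfl

theorem orb_eq_of_mem {p q : Ω} (h : q ∈ orb p) : orb q = orb p := by
  rw [orb_eq] at h
  rw [orb_eq, orb_eq]
  exact MulAction.orbit_eq_iff.mpr h

/-- Fixed points of the involution form an invariant set when they lie in orbits of at most eight
points. -/
theorem fix_invariant [MulAction.IsPretransitive ↥(commutator ↥G) Ω]
    (hB : ∀ p, rho (Ω := Ω) zEl p = p → (orb p).ncard ≤ 8)
    (hne : ∃ p, rho (Ω := Ω) zEl p = p) (hne' : ∃ p, rho (Ω := Ω) zEl p ≠ p) : False := by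
  classical
  obtain ⟨p₀, hp₀⟩ := hne
  obtain ⟨q₀, hq₀⟩ := hne'
  let B : Set Ω := {p | rho (Ω := Ω) zEl p = p}
  have hgood : ∀ x ∈ Subgroup.closure genSet, ∃ t : ↥(commutator ↥G),
      ((t : ↥G) : GL chevF4.Idx K) = x ∧ ∀ p, p ∈ B ↔ t • p ∈ B := by
    intro x hx
    induction hx using Subgroup.closure_induction with
    | mem x hx =>
      have hmem : x ∈ (commutator ↥G).map G.subtype := by
        rcases hx with hx | ⟨v, hv, i, rfl⟩
        · exact hx.2
        · exact conj_nn_mem i hv.2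
      obtain ⟨t, ht, rfl⟩ := hmem
      refine ⟨⟨t, ht⟩, rfl, ?_⟩
      have hsub : ∀ p, p ∈ B → (⟨t, ht⟩ : ↥(commutator ↥G)) • p ∈ B := by
        intro p hp
        show rho (Ω := Ω) zEl _ = _
        have key : ∃ s : ↥S0, rho (Ω := Ω) s p = p ∧
            iota zEl * ⟨t, ht⟩ = (⟨t, ht⟩ : ↥(commutator ↥G)) * iota s := by
          rcases hx with hx | ⟨v, hv, i, e⟩
          · refine ⟨zEl, hp, Subtype.ext (Subtype.ext ?_)⟩
            exact (zEl_central (S0_le hx)).symm
          · have hzv : v⁻¹ * (zEl : GL chevF4.Idx K) * v = zEl := by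
              rw [mul_assoc, ← zEl_central hv, inv_mul_cancel_left]
            change (t : GL chevF4.Idx K) = v * nn i * v⁻¹ at e
            have hni : (nn i)⁻¹ = nn i := inv_eq_of_mul_eq_one_right (nn_sq i)
            rcases (show i = 0 ∨ i = 1 by omega) with rfl | rfl
            · refine ⟨zEl, hp, Subtype.ext (Subtype.ext ?_)⟩
              show (zEl : GL chevF4.Idx K) * (t : GL chevF4.Idx K) = (t : GL chevF4.Idx K) * zEl
              rw [e]
              calc (zEl : GL chevF4.Idx K) * (v * nn 0 * v⁻¹)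
                  = v * nn 0 * ((nn 0)⁻¹ * (v⁻¹ * zEl * v) * nn 0) * v⁻¹ := by group
                _ = v * nn 0 * zEl * v⁻¹ := by rw [hzv, conj_zEl.1]
                _ = v * nn 0 * v⁻¹ * (v * zEl * v⁻¹) := by group
                _ = _ := by rw [zEl_central hv, mul_inv_cancel_right]
            · let cv : ↥S0 →* ↥S0 :=
                { toFun := fun s => ⟨v * s * v⁻¹, U2_normalizes hv s.2⟩
                  map_one' := Subtype.ext (by simp)
                  map_mul' := fun a b => Subtype.ext (by simp only [Subgroup.coe_mul]; group) }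
              have hsurj : Function.Surjective cv := fun s =>
                ⟨⟨v⁻¹ * s * v, by simpa using U2_normalizes (inv_mem hv) s.2⟩,
                  Subtype.ext (by simp [cv, mul_assoc])⟩
              refine ⟨cv zEl1, ?_, Subtype.ext (Subtype.ext ?_)⟩
              · refine fix_eight ((rho (Ω := Ω)).comp cv) p ?_
                have hr : (Set.range fun s => ((rho (Ω := Ω)).comp cv) s p) = orb p := by
                  refine subset_antisymm ?_ ?_
                  · rintro _ ⟨s, rfl⟩; exact ⟨cv s, rfl⟩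
                  · rintro _ ⟨s, rfl⟩
                    obtain ⟨r, rfl⟩ := hsurj s
                    exact ⟨r, rfl⟩
                rw [hr]
                exact hB p hp
              · show (zEl : GL chevF4.Idx K) * (t : GL chevF4.Idx K) =
                  (t : GL chevF4.Idx K) * (v * (zEl1 : GL chevF4.Idx K) * v⁻¹)
                rw [e]
                calc (zEl : GL chevF4.Idx K) * (v * nn 1 * v⁻¹)
                    = v * nn 1 * ((nn 1)⁻¹ * (v⁻¹ * zEl * v) * nn 1) * v⁻¹ := by group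
                  _ = v * nn 1 * zEl1 * v⁻¹ := by rw [hzv, conj_zEl.2]
                  _ = _ := by group
        obtain ⟨s, hs, e⟩ := key
        rw [rho_apply, ← mul_smul, e, mul_smul, ← rho_apply, hs]
      intro p
      refine ⟨hsub p, fun h => ?_⟩
      have himg : (fun q => (⟨t, ht⟩ : ↥(commutator ↥G)) • q) '' B = B :=
        Set.eq_of_subset_of_ncard_le (by rintro _ ⟨q, hq, rfl⟩; exact hsub q hq)
          (by rw [Set.ncard_image_of_injective _ (MulAction.injective (⟨t, ht⟩ : ↥(commutator ↥G)))]) (Set.toFinite _)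
      rw [← himg] at h
      obtain ⟨q, hq, e⟩ := h
      exact (MulAction.injective (⟨t, ht⟩ : ↥(commutator ↥G)) e) ▸ hq
    | one => exact ⟨1, rfl, fun p => by rw [one_smul]⟩
    | mul x y _ _ hx hy =>
      obtain ⟨a, rfl, ha⟩ := hx
      obtain ⟨b, rfl, hb⟩ := hy
      exact ⟨a * b, rfl, fun p => by rw [mul_smul, ← ha, ← hb]⟩
    | inv x _ hx =>
      obtain ⟨a, rfl, ha⟩ := hx
      exact ⟨a⁻¹, rfl, fun p => by rw [ha (a⁻¹ • p), smul_inv_smul]⟩
  obtain ⟨g, hg⟩ := MulAction.exists_smul_eq ↥(commutator ↥G) p₀ q₀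
  obtain ⟨t, ht, htB⟩ := hgood _ (generated g)
  have : t = g := Subtype.ext (Subtype.ext ht)
  subst this
  exact hq₀ (hg ▸ (htB p₀).mp hp₀)

/-- The main statement. -/
theorem no_two_transitive [FaithfulSMul ↥(commutator ↥G) Ω] (hΩ : 3 ≤ Nat.card Ω) :
    ¬ MulAction.IsMultiplyPretransitive ↥(commutator ↥G) Ω 2 := by
  classical
  intro h2
  haveI : MulAction.IsPretransitive ↥(commutator ↥G) Ω :=
    MulAction.isPretransitive_of_is_two_pretransitive
  haveI := Fintype.ofFinite Ω
  have hzne : ∃ p, rho (Ω := Ω) zEl p ≠ p := by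
    by_contra h
    push Not at h
    refine zEl_ne (iota_injective ?_)
    rw [map_one]
    exact eq_of_smul_eq_smul (α := Ω) fun p => by rw [one_smul]; exact h p
  have hemb : ∀ e : Fin 2 ↪ Ω, (MulAction.stabilizer ↥(commutator ↥G) e).index =
      Nat.card Ω * (Nat.card Ω - 1) := by
    intro e
    rw [MulAction.index_stabilizer_of_transitive, Nat.card_eq_fintype_card (α := Fin 2 ↪ Ω),
      Fintype.card_embedding_eq, Fintype.card_fin, Nat.card_eq_fintype_card]
    simp [Nat.descFactorial_succ, mul_comm]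
  obtain ⟨a, b, hab⟩ : ∃ a b : Ω, a ≠ b := by
    rw [Nat.card_eq_fintype_card] at hΩ
    exact Fintype.exists_pair_of_one_lt_card (by omega)
  have hdvd : Nat.card Ω * (Nat.card Ω - 1) ∣ 2 ^ 12 * 8775 := by
    let e : Fin 2 ↪ Ω := ⟨![a, b], by
      intro i j; fin_cases i <;> fin_cases j <;> simp [hab, hab.symm]⟩
    have h := (Subgroup.index_dvd_card (MulAction.stabilizer ↥(commutator ↥G) e)).trans
      (Subgroup.card_subgroup_dvd_card (commutator ↥G))
    rwa [hemb e, card_G2] at h
  have hlt : Nat.card Ω < 6000 := by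
    by_contra hge
    push Not at hge
    have := Nat.le_of_dvd (by norm_num) hdvd
    have h' : 6000 * 5999 ≤ Nat.card Ω * (Nat.card Ω - 1) := Nat.mul_le_mul hge (by omega)
    omega
  have hpos : ∀ p : Ω, (orb p).ncard ≤ Nat.card Ω := fun p => Set.ncard_le_card _
  obtain ⟨q, hq⟩ := hzne
  have h16 : 16 < (orb q).ncard := by
    by_contra h
    exact hq (fix_sixteen rho q (not_lt.mp h))
  obtain ⟨k, hk⟩ := orb_pow q
  have h32 : 32 ≤ (orb q).ncard := by
    rw [hk] at h16 ⊢
    exact Nat.pow_le_pow_right two_pos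
      (show 5 ≤ k by by_contra h; have := Nat.pow_le_pow_right two_pos (show k ≤ 4 by omega); omega)
  have hmoves : ∀ p ∈ orb q, rho (Ω := Ω) zEl p ≠ p := by
    rintro _ ⟨s, rfl⟩ h
    refine hq ((rho (Ω := Ω) s).injective ?_)
    rw [← Equiv.Perm.mul_apply, ← map_mul, show s * zEl = zEl * s from
      Subtype.ext (zEl_central (S0_le s.2)), map_mul, Equiv.Perm.mul_apply]
    exact h
  have hdisj : ∀ p, p ∉ orb q → (orb p).ncard + (orb q).ncard ≤ Nat.card Ω := by
    intro p hp
    rw [← Set.ncard_union_eq (Set.disjoint_left.mpr fun r hr hr' => hp ?_) (Set.toFinite _)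
      (Set.toFinite _)]
    · exact Set.ncard_le_card _
    · rw [← orb_eq_of_mem hr', orb_eq_of_mem hr]
      exact ⟨1, by simp⟩
  have hodd : Nat.Coprime 2 iota.range.index := Nat.prime_two.coprime_iff_not_dvd.mpr odd_index
  have hout : ∃ p, p ∉ orb q := by
    by_contra h
    push Not at h
    have hu : orb q = Set.univ := Set.eq_univ_of_forall h
    rw [hu, Set.ncard_univ] at hk h32
    rcases degree_cases _ hlt hΩ hdvd with hn | hn | hn
    · omega
    · rw [hn] at hk
      have : k < 6 := by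
        by_contra h; have := Nat.pow_le_pow_right two_pos (show 6 ≤ k by omega); omega
      interval_cases k <;> omega
    · rw [hn] at hk
      rcases k with _ | k
      · omega
      · rw [pow_succ] at hk; omega
  obtain ⟨p₁, hp₁⟩ := hout
  have hsmall : ∀ p, p ∉ orb q → (orb p).ncard ≤ 8 := by
    intro p hp'
    have := hdisj p hp'
    rcases degree_cases _ hlt hΩ hdvd with hn | hn | hn <;> [have := hpos q; skip; skip] <;>
      first
        | omega
        | skip
    -- degree 65
    obtain ⟨c, hc⟩ : ∃ c : Ω, (orb c).ncard = 1 := by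
      haveI : Fact (Nat.Prime 2) := ⟨Nat.prime_two⟩
      obtain ⟨c, hc⟩ := isPGroup_range.nonempty_fixed_point_of_prime_not_dvd_card Ω
        (by rw [hn]; norm_num)
      refine ⟨c, Set.ncard_eq_one.mpr ⟨c, ?_⟩⟩
      rw [orb_eq]
      exact Set.eq_singleton_iff_unique_mem.mpr
        ⟨MulAction.mem_orbit_self c, fun x ⟨g, hg⟩ => hg ▸ hc g⟩
    have hqc : q ≠ c := fun h => by rw [← h] at hc; omega
    have hle : MulAction.stabilizer ↥(commutator ↥G) q ⊓ iota.range ≤
        MulAction.stabilizer ↥(commutator ↥G) (⟨![c, q], by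
          intro i j; fin_cases i <;> fin_cases j <;> simp [hqc, hqc.symm]⟩ : Fin 2 ↪ Ω) := by
      rintro g ⟨hgq, s, rfl⟩
      have hs : iota s • c = c := by
        have hmem : iota s • c ∈ orb c := ⟨s, rfl⟩
        obtain ⟨d, hd⟩ := Set.ncard_eq_one.mp hc
        have h1 : c ∈ orb c := ⟨1, by simp⟩
        rw [hd, Set.mem_singleton_iff] at hmem h1
        rw [hmem, ← h1]
      refine Function.Embedding.ext fun i => ?_
      fin_cases i
      · exact hs
      · exact hgq
    have h64 : 64 ∣ (orb q).ncard := by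
      have h := dvd_orb (d := 64) (by rw [hemb, hn]; norm_num) hle
      exact ((hodd.pow_left 6).dvd_of_dvd_mul_right h)
    obtain ⟨m, hm⟩ := h64
    have : 64 ≤ (orb q).ncard := by rw [hm]; rcases m with _ | m <;> omega
    omega
  exact fix_invariant (Ω := Ω) (fun p hp => hsmall p fun h => hmoves p h hp)
    ⟨p₁, fix_sixteen rho p₁ ((hsmall p₁ hp₁).trans (by norm_num))⟩ ⟨q, hq⟩

end action

end CfsgLib.TitsTwoTrans
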